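import Groth.Agent.RefHullLib.DivSheaf
import Groth.Agent.CAlgH3.Depth
import Groth.Prelude.Def_CDiv
import Mathlib

/-!
# Rational functions in local rings, and germs of divisors
-/

set_option autoImplicit false
set_option backward.isDefEq.respectTransparency.types false
universe u

open CategoryTheory AlgebraicGeometry IsLocalRing
open Groth.Agent.RefHullLib

namespace Groth.Agent.CDiv28

section Algebra

variable {R : Type u} [CommRing R] [IsDomain R] [IsNoetherianRing R] [IsLocalRing R] {K : Type u} [Field K]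
  [Algebra R K] [IsFractionRing R K]

/-- In depth at least two a fraction defined at all nonmaximal primes is defined everywhere. -/
theorem mem_range_of_two_le_depth (hd : 2 ≤ _root_.LocCoh.depth R R) (v : K)
    (h : ∀ (p : Ideal R) [p.IsPrime], p ≠ maximalIdeal R →
      ∃ a s : R, s ∉ p ∧ v * algebraMap R K s = algebraMap R K a) :
    v ∈ Set.range (algebraMap R K) := by
  obtain ⟨a, b, hb, rfl⟩ := IsFractionRing.div_surjective R v
  have hb0 : b ≠ 0 := nonZeroDivisors.ne_zero hb
  have hbK : algebraMap R K b ≠ 0 := IsFractionRing.to_map_ne_zero_of_mem_nonZeroDivisors hb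
  by_cases hbu : IsUnit b
  · obtain ⟨c, hc⟩ := hbu.dvd (a := a)
    exact ⟨c, by rw [hc, map_mul, mul_div_cancel_left₀ _ hbK]⟩
  by_cases hab : b ∣ a
  · obtain ⟨c, rfl⟩ := hab
    exact ⟨c, by rw [map_mul, mul_div_cancel_left₀ _ hbK]⟩
  exfalso
  have hne : (Submodule.Quotient.mk a : R ⧸ Ideal.span {b}) ≠ 0 := by
    rwa [Ne, Submodule.Quotient.mk_eq_zero, Ideal.mem_span_singleton]
  obtain ⟨p, hp, hle⟩ := exists_le_isAssociatedPrime_of_isNoetherianRing R
    (Submodule.Quotient.mk a : R ⧸ Ideal.span {b}) hne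
  haveI := hp.isPrime
  have hbm : b ∈ maximalIdeal R := (mem_maximalIdeal b).2 hbu
  have hreg : IsSMulRegular R b := fun x y hxy => mul_left_cancel₀ hb0 hxy
  haveI := CAlgH3.nontrivial_quotSMulTop (M := R) hbm
  have h1 : 1 ≤ _root_.LocCoh.depth R (R ⧸ Ideal.span {b}) := by
    rw [← CAlgH3.depth_congr (CAlgH3.quotSMulTopSelf b), ← ENat.add_le_add_iff_right ENat.one_ne_top]
    rw [CAlgH3.depth_quotSMulTop_add_one hbm hreg, one_add_one_eq_two]
    exact hd
  haveI : Nontrivial (R ⧸ Ideal.span {b}) := (CAlgH3.quotSMulTopSelf b).symm.toEquiv.nontrivial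
  have hpm : p ≠ maximalIdeal R := fun e => (CAlgH3.one_le_depth_iff (M := R ⧸ Ideal.span {b})).1 h1 (e ▸ hp)
  obtain ⟨c, s, hs, hcs⟩ := h p hpm
  rw [div_mul_eq_mul_div, div_eq_iff hbK, ← map_mul, ← map_mul] at hcs
  refine hs (hle ?_)
  rw [Submodule.mem_colon_singleton, Submodule.mem_bot, ← Submodule.Quotient.mk_smul,
    Submodule.Quotient.mk_eq_zero, smul_eq_mul, mul_comm, IsFractionRing.injective R K hcs]
  exact Ideal.mul_mem_left _ _ (Ideal.mem_span_singleton_self b)

end Algebra

variable {X : Scheme.{u}} [IsIntegral X] [IsLocallyNoetherian X]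

/-- A rational function belongs to the local ring at a point. -/
def InLoc (x : X) (v : X.functionField) : Prop :=
  ∃ a : X.presheaf.stalk x, algebraMap (X.presheaf.stalk x) X.functionField a = v

omit [IsLocallyNoetherian X] in
theorem algebraMap_specializes {y x : X} (h : y ⤳ x) (a : X.presheaf.stalk x) :
    algebraMap (X.presheaf.stalk y) X.functionField ((X.presheaf.stalkSpecializes h).hom a) =
      algebraMap (X.presheaf.stalk x) X.functionField a := by
  obtain ⟨U, hU, r, rfl⟩ := X.presheaf.exists_germ_eq a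
  refine Eq.trans (congrArg _ (TopCat.Presheaf.germ_stalkSpecializes_apply X.presheaf hU h r)) ?_
  exact (toGenRing_germ (h.mem_open U.isOpen hU) r).trans (toGenRing_germ hU r).symm

omit [IsLocallyNoetherian X] in
theorem InLoc.specializes {y x : X} (h : y ⤳ x) {v : X.functionField} (hv : InLoc x v) : InLoc y v := by
  obtain ⟨a, rfl⟩ := hv
  exact ⟨_, algebraMap_specializes h a⟩

omit [IsLocallyNoetherian X] in
theorem InLoc.exists_nhd {x : X} {v : X.functionField} (hv : InLoc x v) :
    ∃ W : X.Opens, x ∈ W ∧ ∀ z ∈ W, InLoc z v := by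
  obtain ⟨a, rfl⟩ := hv
  obtain ⟨W, hW, r, rfl⟩ := X.presheaf.exists_germ_eq a
  exact ⟨W, hW, fun z hz => ⟨X.presheaf.germ W z hz r, (toGenRing_germ hz r).trans (toGenRing_germ hW r).symm⟩⟩

omit [IsLocallyNoetherian X] in
theorem InLoc.mul {x : X} {v w : X.functionField} (hv : InLoc x v) (hw : InLoc x w) : InLoc x (v * w) := by
  obtain ⟨a, rfl⟩ := hv
  obtain ⟨b, rfl⟩ := hw
  exact ⟨a * b, map_mul _ _ _⟩

omit [IsLocallyNoetherian X] in
theorem inLoc_genericPoint (v : X.functionField) : InLoc (genericPoint X) v :=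
  ⟨v, DFunLike.congr_fun (congrArg CommRingCat.Hom.hom (X.presheaf.stalkSpecializes_refl (genericPoint X))) v⟩

omit [IsLocallyNoetherian X] in
theorem eq_genericPoint_of_coheight {x : X} (hx : Order.coheight x = 0) : x = genericPoint X :=
  ((genericPoint_specializes x).antisymm (Scheme.le_iff_specializes.1
    (Order.coheight_eq_zero.1 hx (Scheme.le_iff_specializes.2 (genericPoint_specializes x))))).eq.symm

theorem coheight_lt_top (x : X) : Order.coheight x < ⊤ := by
  have h := (ringKrullDim_lt_top (R := X.presheaf.stalk x))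
  rw [ringKrullDim_stalk_eq_coheight] at h
  exact WithBot.coe_lt_coe.1 h

/-- Induction along generizations. -/
theorem induction_generizations {P : X → Prop}
    (h : ∀ x, (∀ y, y ⤳ x → y ≠ x → P y) → P x) (x : X) : P x := by
  induction x using (InvImage.wf (fun z : X => Order.coheight z) wellFounded_lt).induction with
  | _ x ih =>
    refine h x fun y hyx hne => ih y ?_
    have hlt : x < y := lt_of_le_not_ge (Scheme.le_iff_specializes.2 hyx)
      fun hge => hne (hyx.antisymm (Scheme.le_iff_specializes.1 hge)).eq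
    exact Order.coheight_strictAnti hlt (coheight_lt_top y)

/-- In depth two, functions defined at all proper generizations are defined. -/
theorem inLoc_of_two_le_depth {x : X} (hd : 2 ≤ _root_.LocCoh.depth (X.presheaf.stalk x) (X.presheaf.stalk x))
    {v : X.functionField} (h : ∀ y, y ⤳ x → y ≠ x → InLoc y v) : InLoc x v := by
  refine mem_range_of_two_le_depth hd v fun p hp hpm => ?_
  obtain ⟨y, hy, hyp⟩ := Misc15.DivDescent.exists_point p hp
  have hne : y ≠ x := by
    rintro rfl
    exact hpm (hyp.symm.trans (Misc15.DivDescent.primeOf_refl y hy))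
  obtain ⟨c, hc⟩ := h y hy hne
  letI := (X.presheaf.stalkSpecializes hy).hom.toAlgebra
  haveI := Misc15.isLocalization_stalkSpecializes hy
  obtain ⟨⟨a, s⟩, hs⟩ := IsLocalization.surj
    ((IsUnit.submonoid (X.presheaf.stalk y)).comap (X.presheaf.stalkSpecializes hy).hom) c
  refine ⟨a, s, hyp ▸ (Misc15.DivDescent.notMem_primeOf hy s.1).2 s.2, ?_⟩
  rw [← hc, ← algebraMap_specializes hy, ← algebraMap_specializes hy a, ← map_mul]
  exact congrArg _ hs

/-- A function is in a local ring as soon as it is so at all generizations of depth one. -/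
theorem inLoc_of_depth_one {v : X.functionField} (x : X)
    (h : ∀ y, y ⤳ x → _root_.LocCoh.depth (X.presheaf.stalk y) (X.presheaf.stalk y) = 1 → InLoc y v) :
    InLoc x v := by
  induction x using induction_generizations with
  | h x ih =>
    have ih' : ∀ y, y ⤳ x → y ≠ x → InLoc y v := fun y hy hne => ih y hy hne fun z hz => h z (hz.trans hy)
    rcases eq_or_ne x (genericPoint X) with rfl | hx
    · exact inLoc_genericPoint v
    have h1 : 1 ≤ _root_.LocCoh.depth (X.presheaf.stalk x) (X.presheaf.stalk x) := by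
      rw [CAlgH3.one_le_depth_iff]
      intro hm
      have hz := CAlgMisc2.eq_bot_of_mem_associatedPrimes (R := X.presheaf.stalk x) hm
      refine hx (eq_genericPoint_of_coheight ?_)
      have hd := ringKrullDim_eq_zero_of_isField (IsLocalRing.isField_iff_maximalIdeal_eq.2 hz)
      rwa [ringKrullDim_stalk_eq_coheight, WithBot.coe_eq_zero] at hd
    rcases eq_or_lt_of_le h1 with h1 | h1
    · exact h x specializes_rfl h1.symm
    · exact inLoc_of_two_le_depth (by rw [← one_add_one_eq_two]; exact Order.add_one_le_of_lt h1) ih'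

/-- On a normal scheme a function is in a local ring as soon as it is so in codimension one. -/
theorem inLoc_of_codimOne (hX : Pi1.IsNormalScheme X) {v : X.functionField} (x : X)
    (h : ∀ y, y ⤳ x → Order.coheight y = 1 → InLoc y v) : InLoc x v := by
  refine inLoc_of_depth_one x fun y hy hd => ?_
  rcases eq_or_ne y (genericPoint X) with rfl | hyg
  · exact inLoc_genericPoint v
  refine h y hy (le_antisymm ?_ ?_)
  · by_contra hlt
    rw [not_le] at hlt
    haveI := (hX y).1
    haveI := (hX y).2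
    have h2 := CAlgH3.two_le_depth_of_normal (R := X.presheaf.stalk y) (by
      rw [ringKrullDim_stalk_eq_coheight, ← one_add_one_eq_two]
      exact WithBot.coe_le_coe.2 (Order.add_one_le_of_lt hlt))
    rw [hd] at h2
    exact absurd h2 (by norm_num)
  · exact Order.one_le_iff_pos.2 (pos_iff_ne_zero.2 fun h0 => hyg (eq_genericPoint_of_coheight h0))

theorem ord_nonneg_of_inLoc {x : X} (hx : Order.coheight x = 1) {v : X.functionField} (h : InLoc x v) :
    0 ≤ Scheme.ord v x := by
  obtain ⟨a, rfl⟩ := h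
  rcases eq_or_ne a 0 with rfl | ha
  · rw [map_zero, Scheme.ord_zero]; rfl
  haveI : Ring.KrullDimLE 1 (X.presheaf.stalk x) := krullDimLE_of_coheight_le hx.le
  have ha' : algebraMap (X.presheaf.stalk x) X.functionField a ≠ 0 :=
    (map_ne_zero_iff _ (IsFractionRing.injective _ _)).2 ha
  rw [Scheme.le_ord_iff hx ha']
  exact Ring.ordFrac_ge_one_of_ne_zero (R := X.presheaf.stalk x) ha

theorem inLoc_of_ord_nonneg (hX : Pi1.IsNormalScheme X) {x : X} (hx : Order.coheight x = 1)
    {v : X.functionField} (h : 0 ≤ Scheme.ord v x) : InLoc x v := by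
  rcases eq_or_ne v 0 with rfl | hv
  · exact ⟨0, map_zero _⟩
  haveI := (hX x).1
  haveI := (hX x).2
  have hdim : ringKrullDim (X.presheaf.stalk x) = 1 := (ringKrullDim_eq_one_iff_coheight x).2 hx
  haveI : IsRegularLocalRing (X.presheaf.stalk x) := CAlgH3.isRegularLocalRing_of_normal_dim_le_one hdim.le
  obtain ⟨_, hdvr⟩ := CAlgMisc2.dvr_iff.2
    ⟨spanFinrank_le_of_dim_le (R := X.presheaf.stalk x) (k := 1) (by exact_mod_cast hdim.le), hdim⟩
  rcases ValuationRing.isInteger_or_isInteger (X.presheaf.stalk x) v with ⟨a, ha⟩ | hinv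
  · exact ⟨a, ha⟩
  have h1 := ord_nonneg_of_inLoc hx (show InLoc x v⁻¹ from hinv)
  have h2 := Scheme.ord_mul (x := x) hv (inv_ne_zero hv)
  rw [mul_inv_cancel₀ hv] at h2
  have h3 : Scheme.ord (1 : X.functionField) x = 0 := (Scheme.ord_eq_iff hx one_ne_zero).2 (map_one _)
  obtain ⟨u, hu⟩ := exists_unit_of_ord_eq_zero hX hx hv (by omega)
  exact ⟨u, hu⟩

open CDiv

omit [IsLocallyNoetherian X] in
theorem germOf_eq_one_iff {x : X} (f : KUnits X) :
    germOf X x f = 1 ↔ InLoc x (f : X.functionField) ∧ InLoc x ((f⁻¹ : KUnits X) : X.functionField) := by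
  rw [germOf, QuotientGroup.eq_one_iff]
  constructor
  · rintro ⟨u, rfl⟩
    exact ⟨⟨u, rfl⟩, ⟨(u⁻¹ : (X.presheaf.stalk x)ˣ), rfl⟩⟩
  · rintro ⟨⟨a, ha⟩, ⟨b, hb⟩⟩
    have hab : a * b = 1 := IsFractionRing.injective (X.presheaf.stalk x) X.functionField (by
      rw [map_mul, ha, hb, map_one, Units.val_inv_eq_inv_val, mul_inv_cancel₀ f.ne_zero])
    exact ⟨⟨a, b, hab, by rw [mul_comm, hab]⟩, Units.ext ha⟩

omit [IsLocallyNoetherian X] in
theorem isEffectiveAt_iff {D : Divisor X} {x : X} {f : KUnits X} (hf : D.1 x = germOf X x f) :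
    IsEffectiveAt D x ↔ InLoc x (f : X.functionField) := by
  constructor
  · rintro ⟨a, ha, h⟩
    rw [hf, QuotientGroup.eq] at h
    obtain ⟨u, hu⟩ := h
    refine ⟨(↑u⁻¹ : X.presheaf.stalk x) * a, ?_⟩
    have h' := congrArg Units.val hu
    simp only [Units.coe_map, Units.val_mul, Units.val_inv_eq_inv_val, Units.val_mk0] at h'
    have h'' : algebraMap (X.presheaf.stalk x) X.functionField (u : X.presheaf.stalk x) =
        ((f : X.functionField))⁻¹ * algebraMap (X.presheaf.stalk x) X.functionField a := h'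
    rw [map_mul, map_units_inv, h'', mul_inv, inv_inv, mul_assoc, inv_mul_cancel₀ ha, mul_one]
  · rintro ⟨a, ha⟩
    refine ⟨a, ha ▸ f.ne_zero, hf.trans ?_⟩
    exact congrArg _ (Units.ext ha.symm)

omit [IsLocallyNoetherian X] in
theorem exists_rep (D : Divisor X) (x : X) :
    ∃ (U : X.Opens) (f : KUnits X), x ∈ U ∧ ∀ y : X, y ∈ U → D.1 y = germOf X y f := D.2 x

theorem eq_one_of_isEffective {D : Divisor X} (h : IsEffective D) (h' : IsEffective D⁻¹) : D = 1 := by
  refine Subtype.ext (funext fun x => ?_)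
  obtain ⟨U, f, hx, hU⟩ := exists_rep D x
  show D.1 x = 1
  rw [hU x hx, germOf_eq_one_iff]
  refine ⟨(isEffectiveAt_iff (hU x hx)).1 (h x), (isEffectiveAt_iff (f := f⁻¹) ?_).1 (h' x)⟩
  show (D.1 x)⁻¹ = _
  rw [hU x hx]
  rfl

/-- The locus where a rational function is a unit is open. -/
theorem isClosed_supp (D : Divisor X) : IsClosed (supp D) := by
  rw [← isOpen_compl_iff, isOpen_iff_forall_mem_open]
  intro x hx
  obtain ⟨U, f, hxU, hU⟩ := exists_rep D x
  have h1 : germOf X x f = 1 := (hU x hxU).symm.trans (not_not.1 hx)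
  obtain ⟨h2, h3⟩ := (germOf_eq_one_iff f).1 h1
  obtain ⟨V, hV, hV'⟩ := h2.exists_nhd
  obtain ⟨W, hW, hW'⟩ := h3.exists_nhd
  refine ⟨U ⊓ V ⊓ W, fun z hz => not_not.2 ?_, (U ⊓ V ⊓ W).isOpen, ⟨⟨hxU, hV⟩, hW⟩⟩
  rw [hU z hz.1.1, germOf_eq_one_iff]
  exact ⟨hV' z hz.1.2, hW' z hz.2⟩

omit [IsLocallyNoetherian X] in
theorem genericPoint_notMem_supp (D : Divisor X) : genericPoint X ∉ supp D := fun h => by
  obtain ⟨U, f, hx, hU⟩ := exists_rep D (genericPoint X)
  exact h ((hU _ hx).trans ((germOf_eq_one_iff f).2 ⟨inLoc_genericPoint _, inLoc_genericPoint _⟩))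

end Groth.Agent.CDiv28
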